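import Cfsg.Agent.OddPair.Bounds

/-!
Pairs of vectors with trivial common stabiliser for solvable groups acting coprimely in odd characteristic:
the statement below a bound on the number of vectors, and elementary facts about coprime actions.
-/

set_option autoImplicit false
set_option linter.style.haveILetI false

namespace CfsgLib.CoprimePair

/-- The theorem for modules of exponent `p` with at most `n` vectors. -/
def PairsBelow (p n : ℕ) : Prop :=
  ∀ (V : Type) [AddCommGroup V] [Finite V], Nat.card V ≤ n → (∀ x : V, p • x = 0) →
    ∀ (A : Type) [Group A] [Finite A] [DistribMulAction A V], (Nat.card A).Coprime p → Group.IsSolvable A →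
      ∃ v w : V, ∀ a : A, a • v = v → a • w = w → ∀ x : V, a • x = x

theorem PairsBelow.mono {p m n : ℕ} (h : PairsBelow p n) (hmn : m ≤ n) : PairsBelow p m :=
  fun V _ _ hV => h V (hV.trans hmn)

/-- The order of a subgroup stays prime to `p`. -/
theorem coprime_subgroup {A : Type*} [Group A] [Finite A] {p : ℕ} (h : (Nat.card A).Coprime p) (H : Subgroup A) :
    (Nat.card H).Coprime p :=
  Nat.Coprime.coprime_dvd_left (Subgroup.card_subgroup_dvd_card H) h

/-- The order of an element stays prime to `p`. -/
theorem coprime_orderOf {A : Type*} [Group A] [Finite A] {p : ℕ} (h : (Nat.card A).Coprime p) (a : A) :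
    (orderOf a).Coprime p :=
  Nat.Coprime.coprime_dvd_left (orderOf_dvd_natCard a) h

end CfsgLib.CoprimePair
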