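import Cfsg.Agent.CoprimePair.Reduce.Main
import Cfsg.Agent.EvenPair.Main

/-!
The two theorems on pairs with trivial common stabiliser for solvable coprime actions.
-/

set_option autoImplicit false

namespace CfsgLib.CoprimePair

theorem frameCase (p n : ℕ) (hp : p.Prime) (hp2 : p ≠ 2) : FrameCase p n := by
  intro A V _ _ _ _ _ _ _ hexp hcop hs IH hV hirr φ hFC
  haveI := Fact.mk hp
  exact EvenPair.exists_pair hp2 hexp hcop hs IH hV hirr φ hFC

/-- A faithful solvable group of order prime to an odd characteristic has two vectors with trivial common stabiliser. -/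
theorem exists_pair_of_isSolvable {A V : Type*} [Group A] [Finite A] [AddCommGroup V] [Finite V]
    [DistribMulAction A V] [FaithfulSMul A V] {p : ℕ} (hp : p.Prime) (hp2 : p ≠ 2)
    (hexp : ∀ x : V, p • x = 0) (hcop : (Nat.card A).Coprime p) (hs : Group.IsSolvable A) :
    ∃ x y : V, ∀ a : A, a • x = x → a • y = y → a = 1 :=
  exists_pair_of_frameCase hp hp2 (fun n => frameCase p n hp hp2) hexp hcop hs

/-- A solvable group acting coprimely and faithfully has two points with trivial common stabiliser. -/
theorem exists_two_points {A K : Type*} [Group A] [Finite A] [Group K] [Finite K]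
    [MulDistribMulAction A K] [FaithfulSMul A K] (hs : Group.IsSolvable A) (hcop : (Nat.card A).Coprime (Nat.card K)) :
    ∃ x y : K, ∀ a : A, a • x = x → a • y = y → a = 1 :=
  exists_two_points_of_frameCase frameCase hs hcop

end CfsgLib.CoprimePair
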