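import Cfsg.Agent.CoprimePair.Basic
import Cfsg.Agent.CoprimePair.Colour.Primitive

/-!
Two vectors with trivial common stabiliser for an irreducible module with a system of imprimitivity,
for a solvable group of order prime to the characteristic.
-/

set_option autoImplicit false
set_option linter.style.haveILetI false
set_option linter.unusedSectionVars false

namespace CfsgLib.CoprimePair

open CfsgLib.OddPair (IsIrr)

theorem eq_zero_of_nsmul {U : Type*} [AddCommGroup U] {p k : ℕ} {x : U} (hk : k.Coprime p) (hp : p • x = 0)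
    (hx : k • x = 0) : x = 0 := by
  rw [← AddMonoid.addOrderOf_eq_one_iff]
  exact Nat.eq_one_of_dvd_coprimes hk (addOrderOf_dvd_of_nsmul_eq_zero hx) (addOrderOf_dvd_of_nsmul_eq_zero hp)

/-- As many inequivalent pairs with trivial common stabiliser as the characteristic, from one pair. -/
theorem exists_labels {H U : Type} [Group H] [Finite H] [AddCommGroup U] [Finite U] [DistribMulAction H U]
    [Nontrivial U] {p : ℕ} (hp : p.Prime) (hexp : ∀ u : U, p • u = 0) (hcop : (Nat.card H).Coprime p)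
    (hpair : ∃ v w : U, ∀ a : H, a • v = v → a • w = w → ∀ u : U, a • u = u) :
    ∃ T : Fin p → U × U, (∀ i (a : H), a • T i = T i → ∀ u : U, a • u = u) ∧
      ∀ i j (a : H), a • T i = T j → i = j := by
  classical
  obtain ⟨v, w, hvw, hv⟩ : ∃ v w : U, (∀ a : H, a • v = v → a • w = w → ∀ u : U, a • u = u) ∧ v ≠ 0 := by
    obtain ⟨v, w, h⟩ := hpair
    rcases eq_or_ne v 0 with hv | hv
    · obtain ⟨x, hx⟩ := exists_ne (0 : U)
      exact ⟨x, w, fun a _ ha => h a (by rw [hv, smul_zero]) ha, hx⟩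
    · exact ⟨v, w, h, hv⟩
  let S := MulAction.stabilizer H v
  letI : Fintype S := Fintype.ofFinite _
  let avg : U → U := fun x => ∑ h : S, (h : H) • x
  have hS : ∀ g : S, ∀ x, (g : H) • avg x = avg x ∧ avg ((g : H) • x) = avg x := by
    intro g x
    constructor
    · show (g : H) • ∑ h : S, (h : H) • x = _
      rw [Finset.smul_sum]
      exact Fintype.sum_equiv (Equiv.mulLeft g) _ _ fun h => by simp [mul_smul]
    · exact Fintype.sum_equiv (Equiv.mulRight g) _ _ fun h => by simp [mul_smul]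
  have hcopS : (Nat.card S).Coprime p := coprime_subgroup hcop S
  have hcancel : ∀ x : U, Nat.card S • x = 0 → x = 0 := fun x hx => eq_zero_of_nsmul hcopS (hexp x) hx
  set w' : U := Nat.card S • w - avg w with hw'
  have hgw : ∀ g : S, (g : H) • w' = w' → (g : H) • w = w := by
    intro g hg
    rw [hw', smul_sub, (hS g w).1, sub_left_inj, smul_comm] at hg
    exact sub_eq_zero.1 (hcancel _ (by rw [nsmul_sub, hg, sub_self]))
  have hmove : ∀ (i j : Fin p) (g : H), g • v = v → g • (w' + (i : ℕ) • v) = w' + (j : ℕ) • v → i = j := by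
    intro i j g hgv hg
    rw [smul_add, smul_comm g (i : ℕ) v, hgv] at hg
    have h0 : avg w' = 0 := by
      show ∑ h : S, (h : H) • (Nat.card S • w - avg w) = 0
      simp only [smul_sub]
      rw [Finset.sum_sub_distrib, Finset.sum_congr rfl fun h _ => (hS h w).1, Finset.sum_const, Finset.card_univ,
        ← Nat.card_eq_fintype_card, sub_eq_zero, Finset.smul_sum]
      exact Finset.sum_congr rfl fun h _ => smul_comm _ _ _
    have hadd : ∀ x y, avg (x + y) = avg x + avg y := fun x y => by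
      show ∑ h : S, (h : H) • (x + y) = _
      rw [← Finset.sum_add_distrib]
      exact Finset.sum_congr rfl fun h _ => smul_add _ _ _
    have hfixed : ∀ k : ℕ, avg (k • v) = Nat.card S • (k • v) := fun k => by
      show ∑ h : S, (h : H) • (k • v) = _
      rw [Finset.sum_congr rfl fun (h : S) _ => (smul_comm (h : H) k v).trans (congrArg (k • ·) h.2),
        Finset.sum_const, Finset.card_univ, ← Nat.card_eq_fintype_card]
    have h1 := congrArg avg hg
    rw [hadd, hadd, show avg (g • w') = avg w' from (hS ⟨g, hgv⟩ w').2, h0, zero_add, zero_add, hfixed, hfixed] at h1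
    have h2 : (i : ℕ) • v = (j : ℕ) • v := sub_eq_zero.1 (hcancel _ (by rw [nsmul_sub, h1, sub_self]))
    have hord : addOrderOf v = p :=
      ((Nat.dvd_prime hp).1 (addOrderOf_dvd_of_nsmul_eq_zero (hexp v))).resolve_left
        fun h => hv (AddMonoid.addOrderOf_eq_one_iff.1 h)
    have h3 := nsmul_inj_mod.1 h2
    rw [hord, Nat.mod_eq_of_lt i.2, Nat.mod_eq_of_lt j.2] at h3
    exact Fin.ext h3
  refine ⟨fun i => (v, w' + (i : ℕ) • v), fun i a ha => ?_,
    fun i j a ha => hmove i j a (congrArg Prod.fst ha) (congrArg Prod.snd ha)⟩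
  have hav : a • v = v := congrArg Prod.fst ha
  have haw : a • (w' + (i : ℕ) • v) = w' + (i : ℕ) • v := congrArg Prod.snd ha
  rw [smul_add, smul_comm a (i : ℕ) v, hav, add_left_inj] at haw
  exact hvw a hav (hgw ⟨a, hav⟩ haw)

variable {A V : Type} [Group A] [Finite A] [AddCommGroup V] [Finite V] [DistribMulAction A V] {p : ℕ}

theorem pair_of_maximal {n : ℕ} (IH : PairsBelow p n) (hp : p.Prime) (hp2 : p ≠ 2)
    (hexp : ∀ v : V, p • v = 0) (hcop : (Nat.card A).Coprime p) (hV : Nat.card V ≤ n + 1)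
    (hs : Group.IsSolvable A) (hirr : IsIrr A V) (H : Subgroup A) (hH : H ≠ ⊤)
    (hmax : ∀ M : Subgroup A, H < M → M = ⊤) (W : A ⧸ H → AddSubgroup V) (hW0 : ∀ q, W q ≠ ⊥)
    (hmove : ∀ (a : A) (q : A ⧸ H), ∀ v ∈ W q, a • v ∈ W (a • q))
    (hind : ∀ [Fintype (A ⧸ H)], ∀ f : A ⧸ H → V, (∀ q, f q ∈ W q) → ∑ q, f q = 0 → ∀ q, f q = 0) :
    ∃ v w : V, ∀ a : A, a • v = v → a • w = w → ∀ x : V, a • x = x := by
  classical
  haveI := hs
  letI : Fintype (A ⧸ H) := Fintype.ofFinite _
  let pt : A ⧸ H := QuotientGroup.mk 1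
  obtain ⟨t, ht, ht1⟩ : ∃ t : A ⧸ H → A, (∀ q, t q • pt = q) ∧ t pt = 1 := by
    refine ⟨Function.update Quotient.out pt 1, fun q => ?_, Function.update_self ..⟩
    rcases eq_or_ne q pt with rfl | hq
    · rw [Function.update_self, one_smul]
    · rw [Function.update_of_ne hq]
      show (QuotientGroup.mk (q.out * 1) : A ⧸ H) = q
      rw [mul_one, QuotientGroup.out_eq']
  have hHpt : ∀ a : H, (a : A) • pt = pt := fun a => by
    show (QuotientGroup.mk ((a : A) * 1) : A ⧸ H) = QuotientGroup.mk 1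
    rw [QuotientGroup.eq]; simp
  have hptH : ∀ a : A, a • pt = pt → a ∈ H := fun a ha => by
    have h1 : (QuotientGroup.mk (a * 1) : A ⧸ H) = QuotientGroup.mk 1 := ha
    rw [QuotientGroup.eq] at h1
    simpa using h1
  have hHW : ∀ (a : H) (x : V), x ∈ W pt → (a : A) • x ∈ W pt := fun a x hx => by
    have h := hmove a pt x hx
    rwa [hHpt] at h
  letI : DistribMulAction H (W pt) :=
    { smul := fun a x => ⟨(a : A) • (x : V), hHW a x x.2⟩
      one_smul := fun x => Subtype.ext (one_smul A (x : V))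
      mul_smul := fun a b x => Subtype.ext (mul_smul (a : A) b (x : V))
      smul_zero := fun a => Subtype.ext (smul_zero (a : A))
      smul_add := fun a x y => Subtype.ext (smul_add (a : A) (x : V) y) }
  -- the translates of an invariant subgroup span
  have hspan : ∀ S : AddSubgroup (W pt), (∀ a : H, ∀ s ∈ S, a • s ∈ S) → S ≠ ⊥ →
      ∀ x : V, ∃ f : A ⧸ H → W pt, (∀ q, f q ∈ S) ∧ ∑ q, t q • (f q : V) = x := by
    intro S hS hS0
    let S' : AddSubgroup V :=
      { carrier := {x | ∃ f : A ⧸ H → W pt, (∀ q, f q ∈ S) ∧ ∑ q, t q • (f q : V) = x}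
        zero_mem' := ⟨0, fun q => zero_mem S, by simp⟩
        add_mem' := fun {x y} ⟨f, hf, hx⟩ ⟨g, hg, hy⟩ => ⟨f + g, fun q => add_mem (hf q) (hg q), by
          simp [smul_add, Finset.sum_add_distrib, hx, hy]⟩
        neg_mem' := fun {x} ⟨f, hf, hx⟩ => ⟨-f, fun q => neg_mem (hf q), by simp [hx]⟩ }
    have htop : S' = ⊤ := by
      refine (hirr S' ?_).resolve_left ?_
      · rintro a y ⟨f, hf, rfl⟩
        have hc : ∀ q, (t q)⁻¹ * a * t (a⁻¹ • q) ∈ H := fun q => hptH _ (by
          rw [mul_smul, mul_smul, ht, smul_inv_smul, inv_smul_eq_iff, ht])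
        refine ⟨fun q => (⟨_, hc q⟩ : H) • f (a⁻¹ • q), fun q => hS _ _ (hf _), ?_⟩
        rw [Finset.smul_sum]
        refine Fintype.sum_equiv (MulAction.toPerm a⁻¹) _ _ fun q => ?_
        show t q • (((t q)⁻¹ * a * t (a⁻¹ • q)) • (f (a⁻¹ • q) : V)) = a • t (a⁻¹ • q) • (f (a⁻¹ • q) : V)
        rw [← mul_smul, ← mul_smul]; congr 1; group
      · intro h
        obtain ⟨⟨s, hs'⟩, hs0⟩ := AddSubgroup.ne_bot_iff_exists_ne_zero.mp hS0
        have hm : (s : V) ∈ S' := ⟨Pi.single pt s, fun q => by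
          rcases eq_or_ne q pt with rfl | hq
          · simpa using hs'
          · simp [hq], by
          rw [Finset.sum_eq_single pt (fun q _ hq => by simp [hq]) (fun h => absurd (Finset.mem_univ _) h)]
          simp [ht1]⟩
        rw [h, AddSubgroup.mem_bot] at hm
        exact hs0 (Subtype.ext (Subtype.ext hm))
    exact fun x => htop.ge (AddSubgroup.mem_top x)
  have hmem : ∀ (q : A ⧸ H) (y : W pt), t q • (y : V) ∈ W q := fun q y => by
    have h := hmove (t q) pt _ y.2
    rwa [ht] at h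
  have huniq : ∀ f g : A ⧸ H → W pt, ∑ q, t q • (f q : V) = ∑ q, t q • (g q : V) → f = g := by
    intro f g h
    funext q
    have h1 := hind (fun q => t q • (f q : V) - t q • (g q : V)) (fun q => sub_mem (hmem q _) (hmem q _))
      (by rw [Finset.sum_sub_distrib, h, sub_self]) q
    exact Subtype.ext (smul_left_cancel _ (sub_eq_zero.1 h1))
  have hirr₀ : IsIrr H (W pt) := by
    intro S hS
    by_cases hS0 : S = ⊥
    · exact Or.inl hS0
    refine Or.inr (eq_top_iff.2 fun x _ => ?_)
    obtain ⟨f, hf, hfx⟩ := hspan S hS hS0 (x : V)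
    have h := huniq f (Pi.single pt x) (by
      rw [hfx, Finset.sum_eq_single pt (fun q _ hq => by simp [hq]) (fun h => absurd (Finset.mem_univ _) h)]
      simp [ht1])
    have h1 := hf pt
    rwa [h, Pi.single_eq_same] at h1
  have hWlt : Nat.card (W pt) < Nat.card V := by
    obtain ⟨a, ha⟩ := SetLike.exists_not_mem_of_ne_top H hH
    let q : A ⧸ H := a • pt
    have hq : q ≠ pt := fun h => ha (hptH a h)
    obtain ⟨⟨y, hy⟩, hy0⟩ := AddSubgroup.ne_bot_iff_exists_ne_zero.mp (hW0 q)
    refine Finite.card_subtype_lt (p := (· ∈ W pt)) (x := y) fun hmem' => hy0 (Subtype.ext ?_)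
    have h := hind (Pi.single q y - Pi.single pt y) (fun l => sub_mem (by
        rcases eq_or_ne l q with rfl | hl
        · simpa using hy
        · simp [hl]) (by
        rcases eq_or_ne l pt with rfl | hl
        · simpa using hmem'
        · simp [hl])) (by simp [Finset.sum_sub_distrib]) q
    simpa [hq] using h
  haveI : Nontrivial (W pt) := (AddSubgroup.nontrivial_iff_ne_bot _).2 (hW0 pt)
  have hexpW : ∀ u : W pt, p • u = 0 := fun u => Subtype.ext (by simpa using hexp (u : V))
  have hcopH : (Nat.card H).Coprime p := coprime_subgroup hcop H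
  obtain ⟨T, hT, hT'⟩ := exists_labels hp hexpW hcopH (IH (W pt) (by omega) hexpW H hcopH inferInstance)
  obtain ⟨col, hcol⟩ := exists_colouring hp hp2 hcop H hH hmax
  refine ⟨∑ q, t q • ((T (col q)).1 : V), ∑ q, t q • ((T (col q)).2 : V), fun a ha1 ha2 => ?_⟩
  have hc : ∀ q, (t (a • q))⁻¹ * a * t q ∈ H := fun q => hptH _ (by
    rw [mul_smul, mul_smul, ht, inv_smul_eq_iff, ht])
  have hcomp : ∀ z : A ⧸ H → W pt, a • ∑ q, t q • (z q : V) = ∑ q, t q • (z q : V) →
      ∀ q, (⟨_, hc q⟩ : H) • z q = z (a • q) := by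
    intro z hz q
    let e := MulAction.toPerm a (β := A ⧸ H)
    have h := huniq (fun r => (⟨_, hc (e.symm r)⟩ : H) • z (e.symm r)) z (by
      refine Eq.trans ?_ hz
      rw [Finset.smul_sum]
      refine Fintype.sum_equiv e.symm _ _ fun r => ?_
      show t r • (((t (a • e.symm r))⁻¹ * a * t (e.symm r)) • (z (e.symm r) : V)) = _
      rw [show a • e.symm r = r from e.apply_symm_apply r, ← mul_smul, ← mul_smul]; congr 1; group)
    have h' := congrFun h (e q)
    simp only [Equiv.symm_apply_apply] at h'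
    exact h'
  have hlab : ∀ q, (⟨_, hc q⟩ : H) • T (col q) = T (col (a • q)) := fun q =>
    Prod.ext (hcomp (fun r => (T (col r)).1) ha1 q) (hcomp (fun r => (T (col r)).2) ha2 q)
  have hqfix := hcol a fun q => (hT' _ _ _ (hlab q)).symm
  intro x
  obtain ⟨f, -, rfl⟩ := hspan ⊤ (fun _ _ _ => AddSubgroup.mem_top _)
    (fun h => by
      obtain ⟨u, hu⟩ := exists_ne (0 : W pt)
      exact hu (AddSubgroup.mem_bot.1 (h ▸ AddSubgroup.mem_top u))) x
  rw [Finset.smul_sum]
  refine Finset.sum_congr rfl fun q _ => ?_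
  have hl := hlab q
  have h := hT (col q) ⟨_, hc q⟩ (hl.trans (by rw [hqfix q])) (f q)
  have h' : ((t (a • q))⁻¹ * a * t q) • (f q : V) = f q := congrArg Subtype.val h
  rw [hqfix q, mul_smul, mul_smul, inv_smul_eq_iff] at h'
  exact h'

/-- Any system of imprimitivity. -/
theorem pair_of_system {n : ℕ} (IH : PairsBelow p n) (hp : p.Prime) (hp2 : p ≠ 2)
    (hexp : ∀ v : V, p • v = 0) (hcop : (Nat.card A).Coprime p) (hV : Nat.card V ≤ n + 1)
    (hs : Group.IsSolvable A) (hirr : IsIrr A V) {ι : Type} [Fintype ι] [MulAction A ι]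
    (hι : 2 ≤ Fintype.card ι) (W : ι → AddSubgroup V) (hW0 : ∀ i, W i ≠ ⊥)
    (hmove : ∀ (a : A) (i : ι), ∀ v ∈ W i, a • v ∈ W (a • i))
    (hind : ∀ f : ι → V, (∀ i, f i ∈ W i) → ∑ i, f i = 0 → ∀ i, f i = 0) :
    ∃ v w : V, ∀ a : A, a • v = v → a • w = w → ∀ x : V, a • x = x := by
  classical
  haveI : Nonempty ι := Fintype.card_pos_iff.mp (by omega)
  obtain ⟨i₀⟩ := ‹Nonempty ι›
  have hsingle : ∀ (i : ι) (x : V), x ∈ W i → ∀ j, (Pi.single i x : ι → V) j ∈ W j := by
    intro i x hx j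
    rcases eq_or_ne j i with rfl | hj
    · simpa using hx
    · simp [hj]
  have htrans : ∀ i : ι, ∃ a : A, a • i₀ = i := by
    intro i
    by_contra hne
    let U' : AddSubgroup V :=
      { carrier := {x | ∃ f : ι → V, (∀ j, f j ∈ W j) ∧ (∀ j, (¬ ∃ a : A, a • i₀ = j) → f j = 0) ∧ ∑ j, f j = x}
        zero_mem' := ⟨0, fun _ => zero_mem _, fun _ _ => rfl, by simp⟩
        add_mem' := fun {x y} ⟨f, hf, hf', hx⟩ ⟨g, hg, hg', hy⟩ => ⟨f + g, fun j => add_mem (hf j) (hg j),
          fun j hj => by simp [hf' j hj, hg' j hj], by simp [Finset.sum_add_distrib, hx, hy]⟩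
        neg_mem' := fun {x} ⟨f, hf, hf', hx⟩ => ⟨-f, fun j => neg_mem (hf j),
          fun j hj => by simp [hf' j hj], by simp [hx]⟩ }
    have htop : U' = ⊤ := by
      refine (hirr U' ?_).resolve_left ?_
      · rintro a x ⟨f, hf, hf', rfl⟩
        refine ⟨fun j => a • f (a⁻¹ • j), fun j => ?_, fun j hj => ?_, ?_⟩
        · have h := hmove a _ _ (hf (a⁻¹ • j))
          rwa [smul_inv_smul] at h
        · show a • f (a⁻¹ • j) = 0
          rw [hf' _ (fun ⟨b, hb⟩ => hj ⟨a * b, by rw [mul_smul, hb, smul_inv_smul]⟩), smul_zero]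
        · rw [Finset.smul_sum]
          exact Fintype.sum_equiv (MulAction.toPerm a⁻¹) _ _ fun j => rfl
      · intro h
        obtain ⟨⟨u, hu⟩, hu0⟩ := AddSubgroup.ne_bot_iff_exists_ne_zero.mp (hW0 i₀)
        have hm : u ∈ U' := ⟨Pi.single i₀ u, hsingle i₀ u hu, fun j hj => by
          rcases eq_or_ne j i₀ with rfl | hj'
          · exact absurd ⟨1, one_smul _ _⟩ hj
          · simp [hj'], by simp⟩
        rw [h] at hm
        exact hu0 (Subtype.ext (AddSubgroup.mem_bot.mp hm))
    obtain ⟨⟨u, hu⟩, hu0⟩ := AddSubgroup.ne_bot_iff_exists_ne_zero.mp (hW0 i)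
    obtain ⟨f, hf, hf', hfu⟩ : u ∈ U' := htop ▸ AddSubgroup.mem_top u
    have h := hind (f - Pi.single i u) (fun j => sub_mem (hf j) (hsingle i u hu j))
      (by simp [Finset.sum_sub_distrib, hfu]) i
    rw [Pi.sub_apply, hf' i hne] at h
    exact hu0 (Subtype.ext (by simpa using h))
  have hst : MulAction.stabilizer A i₀ ≠ ⊤ := by
    intro h
    obtain ⟨j, hj⟩ := Fintype.exists_ne_of_one_lt_card (by omega) i₀
    obtain ⟨a, ha⟩ := htrans j
    exact hj (ha.symm.trans (h.ge (Subgroup.mem_top a)))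
  obtain ⟨H, ⟨hle, hH⟩, hHmax⟩ := Set.Finite.exists_maximalFor id
    {M : Subgroup A | MulAction.stabilizer A i₀ ≤ M ∧ M ≠ ⊤} (Set.toFinite _) ⟨_, le_rfl, hst⟩
  have hmax : ∀ M : Subgroup A, H < M → M = ⊤ := fun M hM => by
    by_contra h
    exact not_le_of_gt hM (hHmax (j := M) ⟨hle.trans hM.le, h⟩ hM.le)
  choose t ht using htrans
  let block : ι → A ⧸ H := fun i => QuotientGroup.mk (t i)
  have hblock : ∀ (a : A) (i : ι), block (a • i) = a • block i := fun a i => by
    show (QuotientGroup.mk (t (a • i)) : A ⧸ H) = QuotientGroup.mk (a * t i)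
    rw [QuotientGroup.eq]
    refine hle ?_
    rw [MulAction.mem_stabilizer_iff, mul_smul, mul_smul, ht, inv_smul_eq_iff, ht]
  let W' : A ⧸ H → AddSubgroup V := fun q =>
    { carrier := {x | ∃ f : ι → V, (∀ i, f i ∈ W i) ∧ (∀ i, block i ≠ q → f i = 0) ∧ ∑ i, f i = x}
      zero_mem' := ⟨0, fun _ => zero_mem _, fun _ _ => rfl, by simp⟩
      add_mem' := fun {x y} ⟨f, hf, hf', hx⟩ ⟨g, hg, hg', hy⟩ => ⟨f + g, fun j => add_mem (hf j) (hg j),
        fun j hj => by simp [hf' j hj, hg' j hj], by simp [Finset.sum_add_distrib, hx, hy]⟩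
      neg_mem' := fun {x} ⟨f, hf, hf', hx⟩ => ⟨-f, fun j => neg_mem (hf j),
        fun j hj => by simp [hf' j hj], by simp [hx]⟩ }
  refine pair_of_maximal IH hp hp2 hexp hcop hV hs hirr H hH hmax W' (fun q => ?_) (fun a q v hv => ?_)
    (fun {inst} g hg hsum q => ?_)
  · induction q using QuotientGroup.induction_on with
    | _ a =>
      have hq : block (a • i₀) = (QuotientGroup.mk a : A ⧸ H) := by
        refine (QuotientGroup.eq).2 (hle ?_)
        rw [MulAction.mem_stabilizer_iff, mul_smul, inv_smul_eq_iff, ht]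
      obtain ⟨⟨u, hu⟩, hu0⟩ := AddSubgroup.ne_bot_iff_exists_ne_zero.mp (hW0 (a • i₀))
      intro h
      have hm : u ∈ W' (QuotientGroup.mk a : A ⧸ H) := ⟨Pi.single (a • i₀) u, hsingle _ u hu, fun i hi => by
        rcases eq_or_ne i (a • i₀) with rfl | hi'
        · exact absurd hq hi
        · simp [hi'], by simp⟩
      rw [h, AddSubgroup.mem_bot] at hm
      exact hu0 (Subtype.ext hm)
  · obtain ⟨f, hf, hf', rfl⟩ := hv
    refine ⟨fun i => a • f (a⁻¹ • i), fun i => ?_, fun i hi => ?_, ?_⟩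
    · have h := hmove a _ _ (hf (a⁻¹ • i))
      rwa [smul_inv_smul] at h
    · show a • f (a⁻¹ • i) = 0
      rw [hf' _ (fun e => hi (by rw [← e, ← hblock, smul_inv_smul])), smul_zero]
    · rw [Finset.smul_sum]
      exact Fintype.sum_equiv (MulAction.toPerm a⁻¹) _ _ fun j => rfl
  · choose f hf hf' hfg using hg
    have h0 := hind (fun i => f (block i) i) (fun i => hf _ i) (by
      calc ∑ i, f (block i) i = ∑ i, ∑ r, f r i := Finset.sum_congr rfl fun i _ =>
            (Finset.sum_eq_single (block i) (fun r _ hr => hf' r i (Ne.symm hr))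
              (fun h => absurd (Finset.mem_univ _) h)).symm
        _ = ∑ r, ∑ i, f r i := Finset.sum_comm
        _ = 0 := by rw [Finset.sum_congr rfl fun r _ => hfg r, hsum])
    rw [← hfg q]
    refine Finset.sum_eq_zero fun i _ => ?_
    by_cases hi : block i = q
    · exact hi ▸ h0 i
    · exact hf' q i hi

end CfsgLib.CoprimePair
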