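import Cfsg.Agent.CoprimePair.Split
import Cfsg.Agent.OddPair.Main
import Cfsg.Agent.OddLocal.InvariantComplement

/-!
Two vectors with trivial common stabiliser for solvable groups of order prime to an odd characteristic,
given the case of a frame with a non-commutative Fitting part.
-/

set_option autoImplicit false
set_option linter.style.haveILetI false
set_option linter.unusedSectionVars false

namespace CfsgLib.CoprimePair

open CfsgLib.OddPair (IsIrr Frame subAction exists_frame)

/-- An invariant complement when the order of the group is prime to the characteristic. -/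
theorem exists_invariant_complement {A V : Type} [Group A] [Finite A] [AddCommGroup V] [Finite V]
    [DistribMulAction A V] {p : ℕ} [hp : Fact p.Prime] (hexp : ∀ v : V, p • v = 0) (hcop : (Nat.card A).Coprime p)
    (U : AddSubgroup V) (hU : ∀ a : A, ∀ v ∈ U, a • v ∈ U) :
    ∃ W : AddSubgroup V, (∀ a : A, ∀ v ∈ W, a • v ∈ W) ∧ U ⊓ W = ⊥ ∧ U ⊔ W = ⊤ := by
  let φ : A →* MulAut (Multiplicative V) :=
    { toFun := fun a => AddEquiv.toMultiplicative (DistribMulAction.toAddEquiv V a)
      map_one' := MulEquiv.ext fun x => one_smul A (Multiplicative.toAdd x)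
      map_mul' := fun a b => MulEquiv.ext fun x => mul_smul a b (Multiplicative.toAdd x) }
  obtain ⟨W, hW, hinf, hsup⟩ := OddLocal.InvariantComplement.exists_invariant_compl (p := p)
    (E := Multiplicative V) (fun x => hexp (Multiplicative.toAdd x))
    (fun h => hp.out.coprime_iff_not_dvd.1 hcop.symm h) φ (AddSubgroup.toSubgroup U)
    (fun a x hx => hU a (Multiplicative.toAdd x) hx)
  refine ⟨Subgroup.toAddSubgroup' W, fun a v hv => hW a (Multiplicative.ofAdd v) hv, ?_, ?_⟩
  · refine (AddSubgroup.eq_bot_iff_forall _).2 fun v hv => ?_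
    have h : Multiplicative.ofAdd v ∈ AddSubgroup.toSubgroup U ⊓ W := ⟨hv.1, hv.2⟩
    rw [hinf, Subgroup.mem_bot] at h
    exact h
  · refine (AddSubgroup.eq_top_iff' _).2 fun v => ?_
    obtain ⟨y, hy, z, hz, hyz⟩ := Subgroup.mem_sup.1 (hsup.ge (Subgroup.mem_top (Multiplicative.ofAdd v)))
    exact AddSubgroup.mem_sup.2 ⟨Multiplicative.toAdd y, hy, Multiplicative.toAdd z, hz, hyz⟩

/-- A cyclic Fitting part: a vector and its image under a generator. -/
theorem pair_of_semilinear {A V : Type} [Group A] [Finite A] [AddCommGroup V] [Finite V] [Nontrivial V]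
    [DistribMulAction A V] [FaithfulSMul A V] [Group.IsSolvable A] (φ : Frame A V) (hFC : φ.F ≤ φ.C) :
    ∃ v w : V, ∀ a : A, a • v = v → a • w = w → a = 1 := by
  obtain ⟨v₀, hv₀⟩ := exists_ne (0 : V)
  obtain ⟨c, hc⟩ := φ.C_isCyclic.exists_generator
  refine ⟨v₀, (c : A) • v₀, fun a ha ha' => ?_⟩
  have haL : a ∈ φ.L := by
    have h1 : ((c : A)⁻¹ * (a * c * a⁻¹)) • v₀ = v₀ := by
      rw [mul_smul, mul_smul, mul_smul, inv_smul_eq_iff.mpr ha.symm, ha', inv_smul_smul]
    have h2 : (c : A)⁻¹ * (a * c * a⁻¹) = 1 := by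
      by_contra h
      exact hv₀ (φ.eq_zero_of_fixed (mul_mem (inv_mem c.2) (φ.C_normal.conj_mem _ c.2 a)) h h1)
    refine Subgroup.mem_centralizer_iff.mpr fun d hd => ?_
    obtain ⟨k, hk⟩ := hc ⟨d, hd⟩
    rw [← show (c : A) ^ k = d from congrArg Subtype.val hk]
    refine (Commute.zpow_left (show Commute (c : A) a from ?_) k).eq
    show (c : A) * a = a * c
    calc (c : A) * a = a * c * a⁻¹ * a := by rw [← inv_mul_eq_one.mp h2]
      _ = a * c := inv_mul_cancel_right _ _
  have haC : a ∈ φ.C := by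
    have hFC' : φ.F = φ.C := le_antisymm hFC φ.C_le
    have h := φ.centralizer_F
    rw [hFC'] at h
    exact h ▸ haL
  by_contra h
  exact hv₀ (φ.eq_zero_of_fixed haC h ha)

/-- The case left to the frame. -/
def FrameCase (p n : ℕ) : Prop :=
  ∀ (A V : Type) [Group A] [Finite A] [AddCommGroup V] [Finite V] [Nontrivial V] [DistribMulAction A V]
    [FaithfulSMul A V], (∀ x : V, p • x = 0) → (Nat.card A).Coprime p → Group.IsSolvable A →
    PairsBelow p n → Nat.card V ≤ n + 1 → IsIrr A V → ∀ φ : Frame A V, ¬ φ.F ≤ φ.C →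
    ∃ v w : V, ∀ a : A, a • v = v → a • w = w → a = 1

/-- A pair for an invariant subgroup of smaller order. -/
theorem pair_sub {p n : ℕ} (IH : PairsBelow p n) {A V : Type} [Group A] [Finite A] [AddCommGroup V] [Finite V]
    [DistribMulAction A V] (hexp : ∀ v : V, p • v = 0) (hcop : (Nat.card A).Coprime p) (hs : Group.IsSolvable A)
    (hV : Nat.card V ≤ n + 1) (U : AddSubgroup V) (hU : ∀ a : A, ∀ v ∈ U, a • v ∈ U) (hne : U ≠ ⊤) :
    ∃ v ∈ U, ∃ w ∈ U, ∀ a : A, a • v = v → a • w = w → ∀ x ∈ U, a • x = x := by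
  letI := subAction U hU
  have hcard : Nat.card U ≤ n := by
    have h1 : Nat.card U ≤ Nat.card V := Nat.card_le_card_of_injective _ Subtype.val_injective
    have h2 : Nat.card U ≠ Nat.card V := fun h => hne (AddSubgroup.eq_top_of_card_eq U h)
    omega
  obtain ⟨v, w, h⟩ := IH U hcard (fun u => Subtype.ext (by simpa using hexp (u : V))) A hcop hs
  exact ⟨v, v.2, w, w.2, fun a ha ha' x hx =>
    congrArg Subtype.val (h a (Subtype.ext ha) (Subtype.ext ha') ⟨x, hx⟩)⟩

theorem pairsBelow_of_frameCase {p : ℕ} (hp : p.Prime) (hp2 : p ≠ 2) (hF : ∀ n, FrameCase p n) :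
    ∀ n, PairsBelow p n := by
  intro n
  haveI := Fact.mk hp
  induction n with
  | zero =>
    intro V _ _ hV
    exact absurd hV (Nat.not_le.mpr Nat.card_pos)
  | succ n IH =>
    intro V _ _ hV hexp A _ _ _ hcop hs
    classical
    by_cases hirr : IsIrr A V
    swap
    · unfold OddPair.IsIrr at hirr
      push Not at hirr
      obtain ⟨U, hU, hU0, hU1⟩ := hirr
      obtain ⟨W, hW, hinf, hsup⟩ := exists_invariant_complement hexp hcop U hU
      have hW1 : W ≠ ⊤ := fun h => hU0 (by rw [← hinf, h, inf_top_eq])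
      obtain ⟨u₁, hu₁, u₂, hu₂, hpU⟩ := pair_sub IH hexp hcop hs hV U hU hU1
      obtain ⟨w₁, hw₁, w₂, hw₂, hpW⟩ := pair_sub IH hexp hcop hs hV W hW hW1
      refine ⟨u₁ + w₁, u₂ + w₂, fun a ha ha' x => ?_⟩
      have split : ∀ {u w : V}, u ∈ U → w ∈ W → a • (u + w) = u + w → a • u = u ∧ a • w = w := by
        intro u w hu hw h
        rw [smul_add] at h
        have h1 : a • u - u = w - a • w := by
          rw [sub_eq_sub_iff_add_eq_add, h, add_comm]
        have h3 : a • u - u ∈ W := by
          rw [h1]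
          exact sub_mem hw (hW a w hw)
        have h2 : a • u - u ∈ (⊥ : AddSubgroup V) := by
          rw [← hinf]
          exact AddSubgroup.mem_inf.mpr ⟨sub_mem (hU a u hu) hu, h3⟩
        rw [AddSubgroup.mem_bot] at h2
        refine ⟨sub_eq_zero.mp h2, ?_⟩
        rw [h2] at h1
        exact (sub_eq_zero.mp h1.symm).symm
      obtain ⟨hu1', hw1'⟩ := split hu₁ hw₁ ha
      obtain ⟨hu2', hw2'⟩ := split hu₂ hw₂ ha'
      obtain ⟨y, hy, z, hz, rfl⟩ := AddSubgroup.mem_sup.mp (hsup.symm ▸ AddSubgroup.mem_top x : x ∈ U ⊔ W)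
      rw [smul_add, hpU a hu1' hu2' y hy, hpW a hw1' hw2' z hz]
    rcases subsingleton_or_nontrivial V with hsub | hnt
    · exact ⟨0, 0, fun a _ _ x => Subsingleton.elim _ _⟩
    -- pass to the group of permutations induced on `V`
    let π : A →* Equiv.Perm V := MulAction.toPermHom A V
    let B := π.range
    have happ : ∀ g : B, ∃ a : A, ∀ x : V, (g : Equiv.Perm V) x = a • x := fun g => by
      obtain ⟨a, ha⟩ := g.2
      exact ⟨a, fun x => by rw [← ha]; rfl⟩
    letI : DistribMulAction B V :=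
      { smul := fun g x => (g : Equiv.Perm V) x
        one_smul := fun x => rfl
        mul_smul := fun g h x => rfl
        smul_zero := fun g => by
          obtain ⟨a, ha⟩ := happ g
          exact (ha 0).trans (smul_zero a)
        smul_add := fun g x y => by
          obtain ⟨a, ha⟩ := happ g
          show (g : Equiv.Perm V) (x + y) = (g : Equiv.Perm V) x + (g : Equiv.Perm V) y
          rw [ha, ha, ha, smul_add] }
    haveI : FaithfulSMul B V := ⟨fun {g h} e => Subtype.ext (Equiv.ext e)⟩
    have hcopB : (Nat.card B).Coprime p := hcop.coprime_dvd_left (Subgroup.card_range_dvd π)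
    haveI := hs
    haveI hsB : Group.IsSolvable B := Group.isSolvable_of_surjective π.rangeRestrict_surjective
    have hirrB : IsIrr B V := fun U hU => hirr U fun a v hv => hU ⟨π a, a, rfl⟩ v hv
    suffices h : ∃ v w : V, ∀ g : B, g • v = v → g • w = w → ∀ x : V, g • x = x by
      obtain ⟨v, w, h⟩ := h
      exact ⟨v, w, fun a ha ha' x => h ⟨π a, a, rfl⟩ ha ha' x⟩
    rcases pair_or_inv IH hp hp2 hexp hcopB hV hsB hirrB with h | hinv
    · exact h
    obtain ⟨φ⟩ := exists_frame hinv
    obtain ⟨v, w, h⟩ : ∃ v w : V, ∀ g : B, g • v = v → g • w = w → g = 1 := by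
      by_cases hFC : φ.F ≤ φ.C
      · exact pair_of_semilinear φ hFC
      · exact hF n B V hexp hcopB hsB IH hV hirrB φ hFC
    exact ⟨v, w, fun g hg hg' x => by rw [h g hg hg', one_smul]⟩

end CfsgLib.CoprimePair
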