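import Cfsg.Agent.CoprimePair.Main
import Cfsg.Agent.OddPair.Transfer

/-!
The two vectors for modules in any universe, from the frame case.
-/

set_option autoImplicit false
set_option linter.style.haveILetI false

namespace CfsgLib.CoprimePair

open CfsgLib.OddPair (Pt ptEquiv)

universe u v

/-- A faithful solvable group of order prime to an odd characteristic has two vectors with trivial common
stabiliser, given the frame case. -/
theorem exists_pair_of_frameCase {A : Type u} {V : Type v} [Group A] [Finite A] [AddCommGroup V] [Finite V]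
    [DistribMulAction A V] [FaithfulSMul A V] {p : ℕ} (hp : p.Prime) (hp2 : p ≠ 2) (hF : ∀ n, FrameCase p n)
    (hexp : ∀ x : V, p • x = 0) (hcop : (Nat.card A).Coprime p) (hs : Group.IsSolvable A) :
    ∃ x y : V, ∀ a : A, a • x = x → a • y = y → a = 1 := by
  obtain ⟨m, ⟨eV₀⟩⟩ := Finite.exists_equiv_fin V
  let eV : V ≃ Pt m := eV₀.trans (ptEquiv m)
  letI : AddCommGroup (Pt m) := eV.symm.addCommGroup
  let f : V ≃+ Pt m := eV.symm.addEquiv.symm
  let π : A →* Equiv.Perm (Pt m) :=
    eV.permCongrHom.toMonoidHom.comp (MulAction.toPermHom A V)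
  have hπ : ∀ (a : A) (x : V), π a (f x) = f (a • x) := fun a x => by
    show eV (a • eV.symm (f x)) = f (a • x)
    rw [show eV.symm (f x) = x from eV.symm_apply_apply x]
    rfl
  let B := π.range
  have happ : ∀ g : B, ∃ a : A, π a = (g : Equiv.Perm (Pt m)) := fun g => g.2
  letI : DistribMulAction B (Pt m) :=
    { smul := fun g x => (g : Equiv.Perm (Pt m)) x
      one_smul := fun x => rfl
      mul_smul := fun g h x => rfl
      smul_zero := fun g => by
        obtain ⟨a, ha⟩ := happ g
        show (g : Equiv.Perm (Pt m)) 0 = 0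
        rw [← ha, ← map_zero f, hπ, smul_zero]
      smul_add := fun g x y => by
        obtain ⟨a, ha⟩ := happ g
        obtain ⟨x, rfl⟩ := f.surjective x
        obtain ⟨y, rfl⟩ := f.surjective y
        show (g : Equiv.Perm (Pt m)) (f x + f y) = (g : Equiv.Perm (Pt m)) (f x) + (g : Equiv.Perm (Pt m)) (f y)
        rw [← ha, ← map_add, hπ, hπ, hπ, smul_add, map_add] }
  haveI := hs
  have hsB : Group.IsSolvable B := Group.isSolvable_of_surjective π.rangeRestrict_surjective
  have hexpB : ∀ x : Pt m, p • x = 0 := fun x => by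
    obtain ⟨x, rfl⟩ := f.surjective x
    rw [← map_nsmul, hexp, map_zero]
  obtain ⟨v, w, h⟩ := pairsBelow_of_frameCase hp hp2 hF _ (Pt m) le_rfl hexpB B
    (hcop.coprime_dvd_left (Subgroup.card_range_dvd π)) hsB
  obtain ⟨v, rfl⟩ := f.surjective v
  obtain ⟨w, rfl⟩ := f.surjective w
  refine ⟨v, w, fun a ha ha' => eq_of_smul_eq_smul (α := V) fun x => ?_⟩
  have h1 := h ⟨π a, a, rfl⟩ ((hπ a v).trans (by rw [ha])) ((hπ a w).trans (by rw [ha'])) (f x)
  rw [one_smul]
  exact f.injective ((hπ a x).symm.trans h1)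

end CfsgLib.CoprimePair
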