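import Cfsg.Agent.CoprimePair.Imprimitive
import Cfsg.Agent.OddPair.Split

/-!
Two vectors, or all the rings of commutative normal subgroups are fields.
-/

set_option autoImplicit false
set_option linter.style.haveILetI false
set_option linter.unusedSectionVars false

namespace CfsgLib.CoprimePair

open CfsgLib.OddPair (IsIrr ringOf ringOf_mul_comm conjEnd conjEnd_mul conjEnd_conjEnd conjEnd_one
  conjEnd_mem_ringOf zero_or_inv_or_idem smul_apply_eq_conjEnd)

variable {A V : Type} [Group A] [Finite A] [AddCommGroup V] [Finite V] [DistribMulAction A V] {p : ℕ}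

/-- A pair, or all the rings of commutative normal subgroups are fields. -/
theorem pair_or_inv [Nontrivial V] {n : ℕ} (IH : PairsBelow p n) (hp : p.Prime) (hp2 : p ≠ 2)
    (hexp : ∀ v : V, p • v = 0) (hcop : (Nat.card A).Coprime p) (hV : Nat.card V ≤ n + 1)
    (hs : Group.IsSolvable A) (hirr : IsIrr A V) :
    (∃ v w : V, ∀ a : A, a • v = v → a • w = w → ∀ x : V, a • x = x) ∨
      ∀ M : Subgroup A, M.Normal → (∀ x ∈ M, ∀ y ∈ M, x * y = y * x) →
        ∀ r ∈ ringOf V M, r ≠ 0 → ∃ s ∈ ringOf V M, r * s = 1 := by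
  classical
  by_cases hbad : ∃ M : Subgroup A, M.Normal ∧ (∀ x ∈ M, ∀ y ∈ M, x * y = y * x) ∧
      ∃ e ∈ ringOf V M, e * e = e ∧ e ≠ 0 ∧ e ≠ 1
  swap
  · refine Or.inr fun M hMn hM r hr hr0 => ?_
    haveI := hMn
    rcases zero_or_inv_or_idem hirr hM hr with h | h | ⟨e, he⟩
    · exact absurd h hr0
    · exact h
    · exact absurd ⟨M, hMn, hM, e, he.1, he.2⟩ hbad
  obtain ⟨M, hMn, hM, e₀, he₀R, he₀, he₀0, he₀1⟩ := hbad
  haveI := hMn
  haveI : Finite (AddMonoid.End V) := Finite.of_injective (fun f => (f : V → V)) DFunLike.coe_injective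
  let Idem : AddMonoid.End V → Prop := fun f => f ∈ ringOf V M ∧ f * f = f
  let Atom : AddMonoid.End V → Prop := fun e => Idem e ∧ e ≠ 0 ∧ ∀ f, Idem f → f * e = f → f = 0 ∨ f = e
  have hcomm : ∀ {r s}, r ∈ ringOf V M → s ∈ ringOf V M → r * s = s * r := fun hr hs => ringOf_mul_comm hM hr hs
  have horth : ∀ e f, Atom e → Atom f → e ≠ f → e * f = 0 := by
    intro e f he hf hne
    have hef : Idem (e * f) := ⟨mul_mem he.1.1 hf.1.1, by
      rw [mul_assoc, ← mul_assoc f e, hcomm hf.1.1 he.1.1, mul_assoc e f, hf.1.2, ← mul_assoc, he.1.2]⟩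
    rcases he.2.2 _ hef (by rw [mul_assoc, hcomm hf.1.1 he.1.1, ← mul_assoc, he.1.2]) with h | h
    · exact h
    rcases hf.2.2 _ hef (by rw [mul_assoc, hf.1.2]) with h' | h'
    · exact h'
    exact absurd (h.symm.trans h') hne
  -- an atom below every non-zero idempotent
  have hbelow : ∀ g, Idem g → g ≠ 0 → ∃ e, Atom e ∧ e * g = e := by
    intro g hg hg0
    obtain ⟨e, ⟨he, he0, heg⟩, hmin⟩ := Set.Finite.exists_minimalFor
      (fun e : AddMonoid.End V => Nat.card (AddMonoidHom.range (e : V →+ V)))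
      {e | Idem e ∧ e ≠ 0 ∧ e * g = e} (Set.toFinite _) ⟨g, hg, hg0, hg.2⟩
    refine ⟨e, ⟨he, he0, fun f hf hfe => ?_⟩, heg⟩
    by_cases hf0 : f = 0
    · exact Or.inl hf0
    refine Or.inr ?_
    have hle : AddMonoidHom.range (f : V →+ V) ≤ AddMonoidHom.range (e : V →+ V) := by
      rintro _ ⟨x, rfl⟩
      refine ⟨f x, ?_⟩
      show (e * f) x = f x
      rw [hcomm he.1 hf.1, hfe]
    have hcard := hmin (j := f) ⟨hf, hf0, by rw [← hfe, mul_assoc, heg]⟩ (AddSubgroup.card_le_of_le hle)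
    have heq := AddSubgroup.eq_of_le_of_card_ge hle hcard
    refine AddMonoidHom.ext fun x => ?_
    obtain ⟨y, hy⟩ : e x ∈ AddMonoidHom.range (f : V →+ V) := heq ▸ ⟨x, rfl⟩
    show f x = e x
    conv_lhs => rw [← hfe]
    show f (e x) = e x
    rw [← hy]
    show (f * f) y = f y
    rw [hf.2]
  let ι := {e : AddMonoid.End V // Atom e}
  letI : Fintype ι := Fintype.ofFinite _
  set s : AddMonoid.End V := ∑ e : ι, e.1 with hs_def
  have hsum : s = 1 := by
    by_contra hne
    have hsR : s ∈ ringOf V M := sum_mem fun e _ => e.2.1.1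
    have hse : ∀ e : ι, e.1 * s = e.1 := fun e => by
      rw [hs_def, Finset.mul_sum, Finset.sum_eq_single e]
      · exact e.2.1.2
      · exact fun f _ hf => horth _ _ e.2 f.2 fun h => hf (Subtype.ext h).symm
      · exact fun h => absurd (Finset.mem_univ e) h
    have hss : s * s = s := by
      conv_lhs => arg 1; rw [hs_def]
      rw [Finset.sum_mul, Finset.sum_congr rfl fun e _ => hse e, ← hs_def]
    obtain ⟨e, he, hes⟩ := hbelow (1 - s) ⟨sub_mem (one_mem _) hsR, by
      simp [sub_mul, mul_sub, hss]⟩ (sub_ne_zero.mpr (Ne.symm hne))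
    rw [mul_sub, mul_one, hse ⟨e, he⟩, sub_self] at hes
    exact he.2.1 hes.symm
  have hcardι : 2 ≤ Fintype.card ι := by
    obtain ⟨a₁, ha₁, ha₁e⟩ := hbelow e₀ ⟨he₀R, he₀⟩ he₀0
    obtain ⟨a₂, ha₂, ha₂e⟩ := hbelow (1 - e₀) ⟨sub_mem (one_mem _) he₀R, by simp [sub_mul, mul_sub, he₀]⟩
      (sub_ne_zero.mpr (Ne.symm he₀1))
    refine Fintype.one_lt_card_iff.mpr ⟨⟨a₁, ha₁⟩, ⟨a₂, ha₂⟩, fun h => ha₂.2.1 ?_⟩
    have h' : a₁ = a₂ := congrArg Subtype.val h
    rw [mul_sub, mul_one, ← h', ha₁e, sub_self] at ha₂e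
    rw [← h', ← ha₂e]
  have hconjAtom : ∀ (a : A) e, Atom e → Atom (conjEnd a e) := by
    intro a e he
    have hI : ∀ (b : A) (f : AddMonoid.End V), Idem f → Idem (conjEnd b f) := fun b f hf =>
      ⟨conjEnd_mem_ringOf b hf.1, by rw [← conjEnd_mul, hf.2]⟩
    have hz : ∀ (b : A) (f : AddMonoid.End V), conjEnd b f = (0 : AddMonoid.End V) → f = 0 := fun b f h => by
      have := congrArg (conjEnd b⁻¹) h
      rw [conjEnd_conjEnd, inv_mul_cancel, conjEnd_one] at this
      rw [this]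
      simp [conjEnd]
    refine ⟨hI a e he.1, fun h => he.2.1 (hz a e h), fun f hf hfe => ?_⟩
    have h1 : conjEnd a⁻¹ f * e = conjEnd a⁻¹ f := by
      have := congrArg (conjEnd a⁻¹) hfe
      rwa [conjEnd_mul, conjEnd_conjEnd a⁻¹ a e, inv_mul_cancel, conjEnd_one] at this
    rcases he.2.2 _ (hI a⁻¹ f hf) h1 with h | h
    · exact Or.inl (hz a⁻¹ f h)
    · refine Or.inr ?_
      rw [← h, conjEnd_conjEnd, mul_inv_cancel, conjEnd_one]
  letI : MulAction A ι :=
    { smul := fun a e => ⟨conjEnd a e.1, hconjAtom a e.1 e.2⟩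
      one_smul := fun e => Subtype.ext (conjEnd_one e.1)
      mul_smul := fun a b e => Subtype.ext (conjEnd_conjEnd a b e.1).symm }
  let W : ι → AddSubgroup V := fun e => AddMonoidHom.range (e.1 : V →+ V)
  refine Or.inl (pair_of_system IH hp hp2 hexp hcop hV hs hirr hcardι W
    (fun e h => e.2.2.1 (AddMonoidHom.ext fun x => ?_)) (fun a e v hv => ?_) fun f hf hsum0 e => ?_)
  · have hx : e.1 x ∈ W e := ⟨x, rfl⟩
    rw [h, AddSubgroup.mem_bot] at hx
    exact hx
  · obtain ⟨x, rfl⟩ := hv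
    exact ⟨a • x, (smul_apply_eq_conjEnd a e.1 x).symm⟩
  · have hproj : ∀ g : ι, e.1 (f g) = if g = e then f e else 0 := by
      intro g
      obtain ⟨x, hx⟩ := hf g
      show _ = _
      rw [← hx]
      split_ifs with h
      · subst h
        rw [← hx]
        show (g.1 * g.1) x = g.1 x
        rw [g.2.1.2]
      · show (e.1 * g.1) x = 0
        rw [horth _ _ e.2 g.2 fun h' => h (Subtype.ext h').symm]
        rfl
    have h := congrArg e.1 hsum0
    rw [map_sum, map_zero, Finset.sum_congr rfl fun g _ => hproj g, Finset.sum_ite_eq' Finset.univ e,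
      if_pos (Finset.mem_univ e)] at h
    exact h

end CfsgLib.CoprimePair
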